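import Mathlib

/-!
# Trace on differential forms for `R[x]/(x^p - a)`: exterior-algebra side over `R`

For an `R`-module `E` and `ν : E` we consider the right ideal-like submodule
`J = (⋀ E) · ν` of the exterior algebra, with the left multiplication operators `Lop e`.
-/

set_option autoImplicit false
set_option linter.unusedSectionVars false
set_option linter.unusedVariables false
set_option linter.unusedSimpArgs false
set_option linter.style.haveILetI false
set_option maxHeartbeats 400000

namespace Groth.Agent.Lib.Helper6.TraceOm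

open ExteriorAlgebra

variable {R : Type*} [CommRing R] {E : Type*} [AddCommGroup E] [Module R E]

theorem ι_mul_eq (m : E) (y : ExteriorAlgebra R E) :
    ι R m * y = CliffordAlgebra.involute y * ι R m := by
  induction y using ExteriorAlgebra.induction with
  | algebraMap r =>
    rw [AlgHom.commutes]
    exact (Algebra.commutes r (ι R m)).symm
  | ι x =>
    rw [CliffordAlgebra.involute_ι, neg_mul]
    have := ι_add_mul_swap (R := R) m x
    exact eq_neg_of_add_eq_zero_left this
  | mul a b ha hb =>
    rw [map_mul, ← mul_assoc, ha, mul_assoc, hb, mul_assoc]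
  | add a b ha hb =>
    rw [map_add, mul_add, add_mul, ha, hb]

theorem ι_mul_mul_ι (m : E) (y : ExteriorAlgebra R E) : ι R m * y * ι R m = 0 := by
  rw [ι_mul_eq, mul_assoc, ι_sq_zero, mul_zero]

/-- `ιMulti` of a `snoc` is a product. -/
theorem ιMulti_snoc {n : ℕ} (v : Fin n → E) (w : E) :
    ExteriorAlgebra.ιMulti R (n + 1) (Fin.snoc v w : Fin (n + 1) → E) =
      (List.ofFn fun i => ι R (v i)).prod * ι R w := by
  rw [ιMulti_apply, List.ofFn_succ', List.concat_eq_append, List.prod_append, List.prod_singleton]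
  simp only [Fin.snoc_castSucc, Fin.snoc_last]

variable (R) (ν : E)

/-- The submodule `(⋀ E) · ν` of the exterior algebra. -/
noncomputable def Jmod : Submodule R (ExteriorAlgebra R E) :=
  LinearMap.range (LinearMap.mulRight R (ι R ν))

theorem mem_Jmod_iff (x : ExteriorAlgebra R E) : x ∈ Jmod R ν ↔ ∃ y, y * ι R ν = x := by
  unfold Jmod
  rw [LinearMap.mem_range]
  simp only [LinearMap.mulRight_apply]

theorem ι_mul_mem_Jmod (e : E) {x : ExteriorAlgebra R E} (hx : x ∈ Jmod R ν) :
    ι R e * x ∈ Jmod R ν := by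
  rw [mem_Jmod_iff] at hx ⊢
  obtain ⟨y, rfl⟩ := hx
  exact ⟨ι R e * y, by rw [mul_assoc]⟩

/-- Left multiplication by `ι e` on `J`. -/
noncomputable def Lop : E →ₗ[R] Module.End R (Jmod R ν) where
  toFun e := (LinearMap.mulLeft R (ι R e)).restrict (p := Jmod R ν) (q := Jmod R ν)
    (fun x hx => ι_mul_mem_Jmod R ν e hx)
  map_add' e e' := by
    apply LinearMap.ext
    intro x
    apply Subtype.ext
    change ι R (e + e') * (x : ExteriorAlgebra R E) = ι R e * x + ι R e' * x
    rw [map_add, add_mul]
  map_smul' r e := by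
    apply LinearMap.ext
    intro x
    apply Subtype.ext
    change ι R (r • e) * (x : ExteriorAlgebra R E) = r • (ι R e * x)
    rw [map_smul, smul_mul_assoc]

theorem Lop_apply_coe (e : E) (j : Jmod R ν) :
    ((Lop R ν e j : Jmod R ν) : ExteriorAlgebra R E) = ι R e * (j : ExteriorAlgebra R E) := rfl

theorem Lop_sq (e : E) : Lop R ν e * Lop R ν e = 0 := by
  apply LinearMap.ext
  intro j
  apply Subtype.ext
  rw [Module.End.mul_apply, Lop_apply_coe, Lop_apply_coe, ← mul_assoc, ι_sq_zero, zero_mul]
  rfl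

theorem Lop_anticomm (e e' : E) : Lop R ν e * Lop R ν e' + Lop R ν e' * Lop R ν e = 0 := by
  apply LinearMap.ext
  intro j
  apply Subtype.ext
  rw [LinearMap.add_apply, Module.End.mul_apply, Module.End.mul_apply, Submodule.coe_add,
    Lop_apply_coe, Lop_apply_coe, Lop_apply_coe, Lop_apply_coe, ← mul_assoc, ← mul_assoc,
    ← add_mul, ι_add_mul_swap, zero_mul]
  rfl

theorem Lop_self : Lop R ν ν = 0 := by
  apply LinearMap.ext
  intro j
  apply Subtype.ext
  rw [Lop_apply_coe]
  obtain ⟨y, hy⟩ := (mem_Jmod_iff R ν _).1 j.2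
  rw [← hy, ← mul_assoc, ι_mul_mul_ι]
  rfl

/-- The base element `ν ∈ J`. -/
noncomputable def j0 : Jmod R ν := ⟨ι R ν, (mem_Jmod_iff R ν _).2 ⟨1, one_mul _⟩⟩

theorem j0_coe : ((j0 R ν : Jmod R ν) : ExteriorAlgebra R E) = ι R ν := rfl

theorem prod_Lop_coe (l : List E) (j : Jmod R ν) :
    ((((l.map (Lop R ν)).prod : Module.End R (Jmod R ν)) j : Jmod R ν) : ExteriorAlgebra R E) =
      (l.map (ι R)).prod * (j : ExteriorAlgebra R E) := by
  induction l with
  | nil => simp
  | cons e l ih =>
    rw [List.map_cons, List.prod_cons, List.map_cons, List.prod_cons, Module.End.mul_apply,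
      Lop_apply_coe, ih, mul_assoc]

/-- Projection of the exterior algebra onto its degree `k` part. -/
noncomputable def projT (k : ℕ) : ExteriorAlgebra R E →ₗ[R] ⋀[R]^k E :=
  (DirectSum.component R ℕ (fun i => ⋀[R]^i E) k).comp
    (DirectSum.decomposeLinearEquiv (fun i : ℕ => ⋀[R]^i E)).toLinearMap

theorem projT_of_mem (k : ℕ) (x : ⋀[R]^k E) :
    projT R k (x : ExteriorAlgebra R E) = x := by
  apply Subtype.ext
  unfold projT
  rw [LinearMap.comp_apply]
  exact DirectSum.decompose_of_mem_same (fun i : ℕ => ⋀[R]^i E) x.2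

theorem projT_prod_mul (n : ℕ) (η : Fin n → E) :
    projT R (n + 1) ((List.map (ι R) (List.ofFn η)).prod * ι R ν) =
      exteriorPower.ιMulti R (n + 1) (Fin.snoc η ν : Fin (n + 1) → E) := by
  have h : (List.map (ι R) (List.ofFn η)).prod * ι R ν =
      ((exteriorPower.ιMulti R (n + 1) (Fin.snoc η ν : Fin (n + 1) → E) : ⋀[R]^(n + 1) E) :
        ExteriorAlgebra R E) := by
    rw [exteriorPower.ιMulti_apply_coe, ιMulti_snoc, List.map_ofFn]
    rfl
  rw [h, projT_of_mem]

end Groth.Agent.Lib.Helper6.TraceOm
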