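import Mathlib

/-!
# Extending a derivation from `R` to `AdjoinRoot f`, and anticommuting families
-/

set_option autoImplicit false
set_option linter.unusedSectionVars false
set_option linter.unusedVariables false
set_option linter.unusedSimpArgs false
set_option linter.style.haveILetI false
set_option maxHeartbeats 400000

namespace Groth.Agent.Lib.Helper6.TraceOm

open Polynomial

section DerExt

variable {Λ R : Type*} [CommRing Λ] [CommRing R] [Algebra Λ R] (f : R[X])
variable {N : Type*} [AddCommGroup N] [Module (AdjoinRoot f) N] [Module R N] [Module Λ N]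
  [IsScalarTower R (AdjoinRoot f) N] [IsScalarTower Λ (AdjoinRoot f) N]
variable (d : Derivation Λ R N) (n₀ : N)

/-- Apply `d` coefficientwise and evaluate at the root. -/
noncomputable def coefDer : R[X] →+ N where
  toFun q := q.sum (fun k c => AdjoinRoot.root f ^ k • d c)
  map_zero' := by simp
  map_add' q1 q2 := by
    rw [Polynomial.sum_add_index]
    · intro i; simp
    · intro i b1 b2; rw [map_add, smul_add]

theorem coefDer_apply (q : R[X]) :
    coefDer f d q = q.sum (fun k c => AdjoinRoot.root f ^ k • d c) := rfl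

theorem coefDer_monomial (n : ℕ) (c : R) :
    coefDer f d (monomial n c) = AdjoinRoot.root f ^ n • d c := by
  rw [coefDer_apply, Polynomial.sum_monomial_index]
  simp

theorem mk_monomial (n : ℕ) (c : R) :
    AdjoinRoot.mk f (monomial n c) = AdjoinRoot.of f c * AdjoinRoot.root f ^ n := by
  rw [← C_mul_X_pow_eq_monomial, map_mul, map_pow, AdjoinRoot.mk_X, AdjoinRoot.mk_C]

theorem coefDer_mul (q1 q2 : R[X]) :
    coefDer f d (q1 * q2) =
      AdjoinRoot.mk f q1 • coefDer f d q2 + AdjoinRoot.mk f q2 • coefDer f d q1 := by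
  induction q1 using Polynomial.induction_on' with
  | add a b ha hb =>
    rw [add_mul, map_add, ha, hb, map_add, map_add, add_smul, smul_add]; abel
  | monomial m c1 =>
    induction q2 using Polynomial.induction_on' with
    | add a b ha hb =>
      rw [mul_add, map_add, ha, hb, map_add, map_add, add_smul, smul_add]; abel
    | monomial n c2 =>
      rw [monomial_mul_monomial, coefDer_monomial, coefDer_monomial, coefDer_monomial,
        mk_monomial, mk_monomial, Derivation.leibniz, smul_add,
        ← algebraMap_smul (AdjoinRoot f) c1 (d c2), ← algebraMap_smul (AdjoinRoot f) c2 (d c1),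
        AdjoinRoot.algebraMap_eq]
      simp only [smul_smul]
      congr 1
      · congr 1; ring
      · congr 1; ring

theorem coefDer_mem_span (q : R[X]) :
    coefDer f d q ∈ Submodule.span (AdjoinRoot f) (Set.range d) := by
  rw [coefDer_apply, Polynomial.sum_def]
  refine Submodule.sum_mem _ (fun k _ => ?_)
  exact Submodule.smul_mem _ _ (Submodule.subset_span ⟨_, rfl⟩)

/-- The derivation-like map on polynomials: coefficientwise `d` plus `q'(root) • n₀`. -/
noncomputable def polyDer : R[X] →+ N :=
  coefDer f d +
  { toFun := fun q => AdjoinRoot.mk f (derivative q) • n₀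
    map_zero' := by simp
    map_add' := by intro a b; simp [add_smul] }

theorem polyDer_apply (q : R[X]) :
    polyDer f d n₀ q = coefDer f d q + AdjoinRoot.mk f (derivative q) • n₀ := rfl

theorem polyDer_mul (q1 q2 : R[X]) :
    polyDer f d n₀ (q1 * q2) =
      AdjoinRoot.mk f q1 • polyDer f d n₀ q2 + AdjoinRoot.mk f q2 • polyDer f d n₀ q1 := by
  rw [polyDer_apply, polyDer_apply, polyDer_apply, coefDer_mul, derivative_mul, map_add,
    map_mul, map_mul, add_smul, smul_add, smul_add, smul_smul, smul_smul,
    mul_comm (AdjoinRoot.mk f (derivative q1)) (AdjoinRoot.mk f q2)]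
  abel

theorem polyDer_C (r : R) : polyDer f d n₀ (C r) = d r := by
  rw [polyDer_apply, ← monomial_zero_left, coefDer_monomial, monomial_zero_left, derivative_C,
    map_zero, zero_smul, add_zero, pow_zero, one_smul]

theorem polyDer_X : polyDer f d n₀ X = n₀ := by
  rw [polyDer_apply, ← monomial_one_one_eq_X, coefDer_monomial, monomial_one_one_eq_X,
    derivative_X, Derivation.map_one_eq_zero, smul_zero, zero_add, map_one, one_smul]

theorem polyDer_smul (c : Λ) (q : R[X]) : polyDer f d n₀ (c • q) = c • polyDer f d n₀ q := by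
  rw [Algebra.smul_def, Polynomial.algebraMap_apply, polyDer_mul, polyDer_C,
    Derivation.map_algebraMap, smul_zero, add_zero]
  change (algebraMap Λ (AdjoinRoot f) c) • _ = _
  rw [algebraMap_smul]

/-- The candidate extension, defined through a set-theoretic section of `mk`. -/
noncomputable def extFun (s : AdjoinRoot f) : N :=
  polyDer f d n₀ (Function.surjInv (AdjoinRoot.mk_surjective (g := f)) s)

section

variable (hf : polyDer f d n₀ f = 0)
include hf

theorem polyDer_eq_of_mk_eq {q1 q2 : R[X]} (h : AdjoinRoot.mk f q1 = AdjoinRoot.mk f q2) :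
    polyDer f d n₀ q1 = polyDer f d n₀ q2 := by
  rw [AdjoinRoot.mk_eq_mk] at h
  obtain ⟨g, hg⟩ := h
  have : q1 = q2 + f * g := by rw [← hg]; ring
  rw [this, map_add, polyDer_mul, hf, smul_zero, AdjoinRoot.mk_self, zero_smul, add_zero,
    add_zero]

theorem extFun_mk (q : R[X]) : extFun f d n₀ (AdjoinRoot.mk f q) = polyDer f d n₀ q :=
  polyDer_eq_of_mk_eq f d n₀ hf (Function.surjInv_eq _ _)

theorem extFun_add (s1 s2 : AdjoinRoot f) :
    extFun f d n₀ (s1 + s2) = extFun f d n₀ s1 + extFun f d n₀ s2 := by
  induction s1 using AdjoinRoot.induction_on with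
  | ih q1 =>
    induction s2 using AdjoinRoot.induction_on with
    | ih q2 =>
      rw [← map_add, extFun_mk f d n₀ hf, extFun_mk f d n₀ hf, extFun_mk f d n₀ hf, map_add]

theorem extFun_mul (s1 s2 : AdjoinRoot f) :
    extFun f d n₀ (s1 * s2) = s1 • extFun f d n₀ s2 + s2 • extFun f d n₀ s1 := by
  induction s1 using AdjoinRoot.induction_on with
  | ih q1 =>
    induction s2 using AdjoinRoot.induction_on with
    | ih q2 =>
      rw [← map_mul, extFun_mk f d n₀ hf, extFun_mk f d n₀ hf, extFun_mk f d n₀ hf, polyDer_mul]

theorem extFun_smul (c : Λ) (s : AdjoinRoot f) :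
    extFun f d n₀ (c • s) = c • extFun f d n₀ s := by
  induction s using AdjoinRoot.induction_on with
  | ih q =>
    rw [AdjoinRoot.smul_mk, extFun_mk f d n₀ hf, extFun_mk f d n₀ hf, polyDer_smul]

/-- The extended derivation. -/
noncomputable def extDer : Derivation Λ (AdjoinRoot f) N :=
  Derivation.mk'
    { toFun := extFun f d n₀
      map_add' := extFun_add f d n₀ hf
      map_smul' := extFun_smul f d n₀ hf }
    (extFun_mul f d n₀ hf)

theorem extDer_mk (q : R[X]) : extDer f d n₀ hf (AdjoinRoot.mk f q) = polyDer f d n₀ q :=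
  extFun_mk f d n₀ hf q

theorem extDer_of (r : R) : extDer f d n₀ hf (AdjoinRoot.of f r) = d r := by
  rw [← AdjoinRoot.mk_C, extDer_mk, polyDer_C]

theorem extDer_root : extDer f d n₀ hf (AdjoinRoot.root f) = n₀ := by
  rw [← AdjoinRoot.mk_X, extDer_mk, polyDer_X]

theorem extDer_mem_span (hn : n₀ = 0) (s : AdjoinRoot f) :
    extDer f d n₀ hf s ∈ Submodule.span (AdjoinRoot f) (Set.range d) := by
  induction s using AdjoinRoot.induction_on with
  | ih q =>
    rw [extDer_mk, polyDer_apply, hn, smul_zero, add_zero]
    exact coefDer_mem_span f d q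

end

end DerExt

section Anti

variable {S A : Type*} [CommRing S] [Ring A] [Algebra S A] (G : Set A)

theorem anticomm_of_mem_span (h1 : ∀ x ∈ G, ∀ y ∈ G, x * y + y * x = 0) {x y : A}
    (hx : x ∈ Submodule.span S G) (hy : y ∈ Submodule.span S G) : x * y + y * x = 0 := by
  induction hx using Submodule.span_induction with
  | mem x hxG =>
    induction hy using Submodule.span_induction with
    | mem y hyG => exact h1 x hxG y hyG
    | zero => simp
    | add y z _ _ hy hz => rw [mul_add, add_mul, add_add_add_comm, hy, hz, add_zero]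
    | smul b y _ hy => rw [mul_smul_comm, smul_mul_assoc, ← smul_add, hy, smul_zero]
  | zero => simp
  | add x z _ _ hx hz => rw [add_mul, mul_add, add_add_add_comm, hx, hz, add_zero]
  | smul b x _ hx => rw [smul_mul_assoc, mul_smul_comm, ← smul_add, hx, smul_zero]

theorem sq_zero_of_mem_span (h1 : ∀ x ∈ G, ∀ y ∈ G, x * y + y * x = 0)
    (h2 : ∀ x ∈ G, x * x = 0) {x : A} (hx : x ∈ Submodule.span S G) : x * x = 0 := by
  induction hx using Submodule.span_induction with
  | mem x hxG => exact h2 x hxG
  | zero => simp
  | add x z hx' hz' hx hz =>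
    have h := anticomm_of_mem_span G h1 hx' hz'
    rw [add_mul, mul_add, mul_add, hx, hz, zero_add, add_zero]
    exact h
  | smul b x _ hx => rw [smul_mul_assoc, mul_smul_comm, hx, smul_zero, smul_zero]

end Anti

end Groth.Agent.Lib.Helper6.TraceOm
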