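import Groth.Agent.Lib.Helper6.TraceOm.TRa
import Groth.Agent.Lib.Helper6.TraceOm.TRb

/-!
# Trace on differential forms for `R[x]/(f)`: assembling the map
-/

set_option autoImplicit false
set_option linter.unusedSectionVars false
set_option linter.unusedVariables false
set_option linter.unusedSimpArgs false
set_option linter.style.haveILetI false
set_option maxHeartbeats 400000

namespace Groth.Agent.Lib.Helper6.TraceOm

open Polynomial TensorProduct ExteriorAlgebra

section TwoStep

variable {S W M : Type*} [CommRing S] [AddCommGroup W] [Module S W] [AddCommGroup M] [Module S M]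
variable (P : W →ₗ[S] Module.End S M) (Q : W →ₗ[S] S)

/-- The operator `(u, v) ↦ (P ω u + Q ω • v, - P ω v)` on `M × M`. -/
noncomputable def gmap : W →ₗ[S] Module.End S (M × M) where
  toFun ω := LinearMap.prod ((P ω).comp (LinearMap.fst S M M) + Q ω • LinearMap.snd S M M)
    (-((P ω).comp (LinearMap.snd S M M)))
  map_add' a b := by
    apply LinearMap.ext
    rintro ⟨u, v⟩
    apply Prod.ext
    · simp [add_smul]; abel
    · simp; abel
  map_smul' c a := by
    apply LinearMap.ext
    rintro ⟨u, v⟩
    apply Prod.ext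
    · simp [mul_smul, smul_add]
    · simp

theorem gmap_apply (ω : W) (u v : M) :
    gmap P Q ω (u, v) = (P ω u + Q ω • v, -(P ω v)) := rfl

variable (hP : ∀ ω, P ω * P ω = 0)
include hP

theorem gmap_sq (ω : W) : gmap P Q ω * gmap P Q ω = 0 := by
  apply LinearMap.ext
  rintro ⟨u, v⟩
  have h' : ∀ x, P ω (P ω x) = 0 := fun x => by
    rw [← Module.End.mul_apply, hP]; rfl
  rw [Module.End.mul_apply, gmap_apply, gmap_apply]
  apply Prod.ext
  · simp [map_add, map_smul, map_neg, h', smul_neg]
  · simp [map_neg, h']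

/-- The algebra map from the exterior algebra. -/
noncomputable def Theta : ExteriorAlgebra S W →ₐ[S] Module.End S (M × M) :=
  ExteriorAlgebra.lift S ⟨gmap P Q, gmap_sq P Q hP⟩

theorem Theta_ι (ω : W) : Theta P Q hP (ι S ω) = gmap P Q ω :=
  ExteriorAlgebra.lift_ι_apply _ _ _ _

theorem Theta_prod (l : List W) :
    Theta P Q hP ((l.map (ι S)).prod) = (l.map (gmap P Q)).prod := by
  induction l with
  | nil => simp
  | cons e l ih => rw [List.map_cons, List.prod_cons, map_mul, ih, Theta_ι, List.map_cons,
      List.prod_cons]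

omit hP in
theorem prod_gmap_hor (l : List W) (u : M) :
    (l.map (gmap P Q)).prod (u, 0) = ((l.map P).prod u, 0) := by
  induction l with
  | nil => simp
  | cons e l ih =>
    rw [List.map_cons, List.prod_cons, Module.End.mul_apply, ih, gmap_apply, List.map_cons,
      List.prod_cons, Module.End.mul_apply, smul_zero, add_zero, map_zero, neg_zero]

omit hP in
theorem prod_gmap_vert (l : List W) (hl : ∀ e ∈ l, Q e = 0) (v : M) :
    ((l.map (gmap P Q)).prod (0, v)).1 = 0 := by
  have key : ∀ v : M, ∃ w : M, (l.map (gmap P Q)).prod (0, v) = (0, w) := by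
    induction l with
    | nil => intro v; exact ⟨v, by simp⟩
    | cons e l ih =>
      intro v
      obtain ⟨w, hw⟩ := ih (fun e' he' => hl e' (List.mem_cons_of_mem _ he')) v
      refine ⟨-(P e w), ?_⟩
      rw [List.map_cons, List.prod_cons, Module.End.mul_apply, hw, gmap_apply,
        hl e List.mem_cons_self, zero_smul, map_zero, add_zero]
  obtain ⟨w, hw⟩ := key v
  rw [hw]

theorem Theta_ιMulti_snoc {n : ℕ} (w : Fin n → W) (w' : W) (hw' : P w' = 0) (v : M) :
    (Theta P Q hP (ExteriorAlgebra.ιMulti S (n + 1) (Fin.snoc w w' : Fin (n + 1) → W)) (0, v)).1 =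
      ((List.ofFn w).map P).prod (Q w' • v) := by
  rw [ιMulti_snoc, map_mul, Module.End.mul_apply, Theta_ι, gmap_apply, hw',
    LinearMap.zero_apply, LinearMap.zero_apply, zero_add, neg_zero,
    show (List.ofFn fun i => ι S (w i)) = (List.ofFn w).map (ι S) from List.map_ofFn.symm,
    Theta_prod, prod_gmap_hor]

theorem Theta_ιMulti_vert {n : ℕ} (w : Fin n → W) (hw : ∀ i, Q (w i) = 0) (v : M) :
    (Theta P Q hP (ExteriorAlgebra.ιMulti S n w) (0, v)).1 = 0 := by
  rw [ιMulti_apply,
    show (List.ofFn fun i => ι S (w i)) = (List.ofFn w).map (ι S) from List.map_ofFn.symm,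
    Theta_prod]
  apply prod_gmap_vert
  intro e he
  rw [List.mem_ofFn] at he
  obtain ⟨i, rfl⟩ := he
  exact hw i

end TwoStep

end Groth.Agent.Lib.Helper6.TraceOm
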