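import Groth.Agent.Lib.Helper6.TraceOm.TRc

/-!
# Trace on differential forms for `R[x]/(f)`: the specific construction
-/

set_option autoImplicit false
set_option linter.unusedSectionVars false
set_option linter.unusedVariables false
set_option linter.unusedSimpArgs false
set_option linter.style.haveILetI false
set_option maxHeartbeats 400000

namespace Groth.Agent.Lib.Helper6.TraceOm

open Polynomial TensorProduct ExteriorAlgebra

section Main

universe u

variable {Λ R : Type u} [CommRing Λ] [CommRing R] [Algebra Λ R] (f : R[X]) (ν : Ω[R⁄Λ])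

/-- The module `S ⊗ J`. -/
abbrev MM : Type u := (AdjoinRoot f) ⊗[R] (Jmod R ν)

/-- Base change of the left-multiplication operators. -/
noncomputable def Lbc : Ω[R⁄Λ] →ₗ[R] Module.End (AdjoinRoot f) (MM f ν) where
  toFun e := (Lop R ν e).baseChange (AdjoinRoot f)
  map_add' e e' := by rw [map_add, LinearMap.baseChange_add]
  map_smul' r e := by rw [map_smul, LinearMap.baseChange_smul]; rfl

theorem Lbc_apply (e : Ω[R⁄Λ]) : Lbc f ν e = (Lop R ν e).baseChange (AdjoinRoot f) := rfl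

theorem Lbc_apply_tmul (e : Ω[R⁄Λ]) (s : AdjoinRoot f) (j : Jmod R ν) :
    Lbc f ν e (s ⊗ₜ[R] j) = s ⊗ₜ[R] (Lop R ν e j) := by
  rw [Lbc_apply, LinearMap.baseChange_tmul]

theorem Lbc_sq (e : Ω[R⁄Λ]) : Lbc f ν e * Lbc f ν e = 0 := by
  rw [Lbc_apply, ← LinearMap.baseChange_mul, Lop_sq, LinearMap.baseChange_zero]

theorem Lbc_anticomm (e e' : Ω[R⁄Λ]) :
    Lbc f ν e * Lbc f ν e' + Lbc f ν e' * Lbc f ν e = 0 := by
  rw [Lbc_apply, Lbc_apply, ← LinearMap.baseChange_mul, ← LinearMap.baseChange_mul,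
    ← LinearMap.baseChange_add, Lop_anticomm, LinearMap.baseChange_zero]

theorem Lbc_self : Lbc f ν ν = 0 := by
  rw [Lbc_apply, Lop_self, LinearMap.baseChange_zero]

theorem prod_Lbc_tmul (l : List (Ω[R⁄Λ])) (s : AdjoinRoot f) (j : Jmod R ν) :
    (l.map (Lbc f ν)).prod (s ⊗ₜ[R] j) = s ⊗ₜ[R] ((l.map (Lop R ν)).prod j) := by
  induction l with
  | nil => simp
  | cons e l ih =>
    rw [List.map_cons, List.prod_cons, Module.End.mul_apply, ih, Lbc_apply_tmul, List.map_cons,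
      List.prod_cons, Module.End.mul_apply]

/-- The derivation `r ↦ Lbc (d r)`. -/
noncomputable def dL : Derivation Λ R (Module.End (AdjoinRoot f) (MM f ν)) :=
  (Lbc f ν).compDer (KaehlerDifferential.D Λ R)

theorem dL_apply (r : R) : dL f ν r = Lbc f ν (KaehlerDifferential.D Λ R r) := rfl

/-- The linear functional used to descend to `R`. -/
noncomputable def ellMap (t : ℕ) (lam : AdjoinRoot f →ₗ[R] R) :
    MM f ν →ₗ[R] ⋀[R]^t (Ω[R⁄Λ]) :=
  TensorProduct.lift (LinearMap.mk₂ R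
    (fun (s : AdjoinRoot f) (j : Jmod R ν) =>
      lam s • projT R t (j : ExteriorAlgebra R (Ω[R⁄Λ])))
    (by intro a b j; rw [map_add, add_smul])
    (by intro c a j; rw [map_smul, smul_eq_mul, mul_smul])
    (by intro a j j'; rw [Submodule.coe_add, map_add, smul_add])
    (by intro c a j; rw [Submodule.coe_smul, map_smul, smul_comm]))

theorem ellMap_tmul (t : ℕ) (lam : AdjoinRoot f →ₗ[R] R) (s : AdjoinRoot f) (j : Jmod R ν) :
    ellMap f ν t lam (s ⊗ₜ[R] j) = lam s • projT R t (j : ExteriorAlgebra R (Ω[R⁄Λ])) := rfl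

variable (Dπ : Derivation Λ (AdjoinRoot f) (Module.End (AdjoinRoot f) (MM f ν)))
  (hπ1 : ∀ r, Dπ (AdjoinRoot.of f r) = dL f ν r) (hπ2 : Dπ (AdjoinRoot.root f) = 0)
  (hπ3 : ∀ s, Dπ s ∈ Submodule.span (AdjoinRoot f) (Set.range (dL f ν)))
  (Dd : Derivation Λ (AdjoinRoot f) (AdjoinRoot f)) (hd1 : ∀ r, Dd (AdjoinRoot.of f r) = 0)
  (hd2 : Dd (AdjoinRoot.root f) = 1)

/-- The horizontal operator-valued form. -/
noncomputable def Ppi : Ω[AdjoinRoot f⁄Λ] →ₗ[AdjoinRoot f] Module.End (AdjoinRoot f) (MM f ν) :=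
  Derivation.liftKaehlerDifferential (R := Λ) (S := AdjoinRoot f)
    (M := Module.End (AdjoinRoot f) (MM f ν)) Dπ

theorem Ppi_D (s : AdjoinRoot f) :
    Ppi f ν Dπ (KaehlerDifferential.D Λ (AdjoinRoot f) s) = Dπ s :=
  Derivation.liftKaehlerDifferential_comp_D _ _

/-- The vertical coefficient form. -/
noncomputable def Qd : Ω[AdjoinRoot f⁄Λ] →ₗ[AdjoinRoot f] AdjoinRoot f :=
  Derivation.liftKaehlerDifferential (R := Λ) (S := AdjoinRoot f) (M := AdjoinRoot f) Dd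

theorem Qd_D (s : AdjoinRoot f) :
    Qd f Dd (KaehlerDifferential.D Λ (AdjoinRoot f) s) = Dd s :=
  Derivation.liftKaehlerDifferential_comp_D _ _

include hπ3 in
theorem pi_sq (ω : Ω[AdjoinRoot f⁄Λ]) : Ppi f ν Dπ ω * Ppi f ν Dπ ω = 0 := by
  apply sq_zero_of_mem_span (S := AdjoinRoot f) (Set.range (dL f ν))
  · rintro _ ⟨r, rfl⟩ _ ⟨r', rfl⟩
    exact Lbc_anticomm f ν _ _
  · rintro _ ⟨r, rfl⟩
    exact Lbc_sq f ν _
  · have : ω ∈ Submodule.span (AdjoinRoot f)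
        (Set.range (KaehlerDifferential.D Λ (AdjoinRoot f))) := by
      rw [KaehlerDifferential.span_range_derivation]; trivial
    induction this using Submodule.span_induction with
    | mem y hy =>
      obtain ⟨s, rfl⟩ := hy
      rw [Ppi_D]
      exact hπ3 s
    | zero => rw [map_zero]; exact Submodule.zero_mem _
    | add y z _ _ hy hz => rw [map_add]; exact Submodule.add_mem _ hy hz
    | smul b y _ hy => rw [map_smul]; exact Submodule.smul_mem _ _ hy

include hπ1 in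
theorem pi_map (e : Ω[R⁄Λ]) :
    Ppi f ν Dπ (KaehlerDifferential.map Λ Λ R (AdjoinRoot f) e) = Lbc f ν e := by
  have : e ∈ Submodule.span R (Set.range (KaehlerDifferential.D Λ R)) := by
    rw [KaehlerDifferential.span_range_derivation]; trivial
  induction this using Submodule.span_induction with
  | mem y hy =>
    obtain ⟨r, rfl⟩ := hy
    rw [KaehlerDifferential.map_D, Ppi_D, AdjoinRoot.algebraMap_eq, hπ1]
    rfl
  | zero => simp
  | add y z _ _ hy hz => rw [map_add, map_add, hy, hz, map_add]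
  | smul b y _ hy => rw [map_smul, LinearMap.map_smul_of_tower, hy, map_smul]

include hd1 in
theorem del_map (e : Ω[R⁄Λ]) :
    Qd f Dd (KaehlerDifferential.map Λ Λ R (AdjoinRoot f) e) = 0 := by
  have : e ∈ Submodule.span R (Set.range (KaehlerDifferential.D Λ R)) := by
    rw [KaehlerDifferential.span_range_derivation]; trivial
  induction this using Submodule.span_induction with
  | mem y hy =>
    obtain ⟨r, rfl⟩ := hy
    rw [KaehlerDifferential.map_D, Qd_D, AdjoinRoot.algebraMap_eq, hd1]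
  | zero => simp
  | add y z _ _ hy hz => rw [map_add, map_add, hy, hz, add_zero]
  | smul b y _ hy => rw [map_smul, LinearMap.map_smul_of_tower, hy, smul_zero]

include hπ1 in
theorem map_P_ofFn {n : ℕ} (η : Fin n → Ω[R⁄Λ]) :
    (List.ofFn (fun j => KaehlerDifferential.map Λ Λ R (AdjoinRoot f) (η j))).map
      (Ppi f ν Dπ) = (List.ofFn η).map (Lbc f ν) := by
  rw [show (List.ofFn fun j => KaehlerDifferential.map Λ Λ R (AdjoinRoot f) (η j)) =
    (List.ofFn η).map (KaehlerDifferential.map Λ Λ R (AdjoinRoot f)) from List.map_ofFn.symm,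
    List.map_map]
  apply List.map_congr_left
  intro e _
  exact pi_map f ν Dπ hπ1 e

/-- The algebra map out of the exterior algebra of `Ω[S⁄Λ]`. -/
noncomputable def ThetaS : ExteriorAlgebra (AdjoinRoot f) (Ω[AdjoinRoot f⁄Λ]) →ₐ[AdjoinRoot f]
    Module.End (AdjoinRoot f) (MM f ν × MM f ν) :=
  Theta (S := AdjoinRoot f) (W := Ω[AdjoinRoot f⁄Λ]) (M := MM f ν) (Ppi f ν Dπ) (Qd f Dd)
    (pi_sq f ν Dπ hπ3)

/-- The trace map. -/
noncomputable def traceMap (lam : AdjoinRoot f →ₗ[R] R) (t : ℕ) :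
    (⋀[AdjoinRoot f]^t (Ω[AdjoinRoot f⁄Λ])) →+ (⋀[R]^t (Ω[R⁄Λ])) where
  toFun ω := ellMap f ν t lam
    ((ThetaS f ν Dπ hπ3 Dd (ω : ExteriorAlgebra (AdjoinRoot f) (Ω[AdjoinRoot f⁄Λ]))
      (0, (1 : AdjoinRoot f) ⊗ₜ[R] j0 R ν)).1)
  map_zero' := by
    rw [Submodule.coe_zero, map_zero, LinearMap.zero_apply, Prod.fst_zero, map_zero]
  map_add' a b := by
    rw [Submodule.coe_add, map_add, LinearMap.add_apply, Prod.fst_add, map_add]

theorem traceMap_apply (lam : AdjoinRoot f →ₗ[R] R) (t : ℕ)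
    (ω : ⋀[AdjoinRoot f]^t (Ω[AdjoinRoot f⁄Λ])) :
    traceMap f ν Dπ hπ3 Dd lam t ω = ellMap f ν t lam
    ((ThetaS f ν Dπ hπ3 Dd (ω : ExteriorAlgebra (AdjoinRoot f) (Ω[AdjoinRoot f⁄Λ]))
      (0, (1 : AdjoinRoot f) ⊗ₜ[R] j0 R ν)).1) := rfl

theorem traceMap_smul (lam : AdjoinRoot f →ₗ[R] R) (t : ℕ) (r : R)
    (ω : ⋀[AdjoinRoot f]^t (Ω[AdjoinRoot f⁄Λ])) :
    traceMap f ν Dπ hπ3 Dd lam t (algebraMap R (AdjoinRoot f) r • ω) =
      r • traceMap f ν Dπ hπ3 Dd lam t ω := by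
  rw [traceMap_apply, traceMap_apply, Submodule.coe_smul, map_smul, LinearMap.smul_apply,
    Prod.smul_fst, algebraMap_smul, map_smul]

include hπ1 hπ2 hd2 in
theorem traceMap_snoc (lam : AdjoinRoot f →ₗ[R] R) (t : ℕ) (η : Fin t → Ω[R⁄Λ])
    (s : AdjoinRoot f) :
    traceMap f ν Dπ hπ3 Dd lam (t + 1) (exteriorPower.ιMulti (AdjoinRoot f) (t + 1)
      (Fin.snoc (fun j => KaehlerDifferential.map Λ Λ R (AdjoinRoot f) (η j))
        (s • KaehlerDifferential.D Λ (AdjoinRoot f) (AdjoinRoot.root f)) :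
        Fin (t + 1) → Ω[AdjoinRoot f⁄Λ])) =
      lam s • exteriorPower.ιMulti R (t + 1) (Fin.snoc η ν : Fin (t + 1) → Ω[R⁄Λ]) := by
  have hw' : Ppi f ν Dπ
      (s • KaehlerDifferential.D Λ (AdjoinRoot f) (AdjoinRoot.root f)) = 0 := by
    rw [map_smul, Ppi_D, hπ2, smul_zero]
  have hQ : Qd f Dd
      (s • KaehlerDifferential.D Λ (AdjoinRoot f) (AdjoinRoot.root f)) = s := by
    rw [map_smul, Qd_D, hd2, smul_eq_mul, mul_one]
  rw [traceMap_apply, exteriorPower.ιMulti_apply_coe]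
  unfold ThetaS
  rw [Theta_ιMulti_snoc _ _ _ _ _ hw', hQ,
    map_P_ofFn f ν Dπ hπ1, TensorProduct.smul_tmul', smul_eq_mul, mul_one, prod_Lbc_tmul,
    ellMap_tmul, prod_Lop_coe, j0_coe, projT_prod_mul]

include hd1 in
theorem traceMap_hor (lam : AdjoinRoot f →ₗ[R] R) (t : ℕ) (η : Fin t → Ω[R⁄Λ])
    (s : AdjoinRoot f) :
    traceMap f ν Dπ hπ3 Dd lam t (s • exteriorPower.ιMulti (AdjoinRoot f) t
      (fun j => KaehlerDifferential.map Λ Λ R (AdjoinRoot f) (η j))) = 0 := by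
  rw [traceMap_apply, Submodule.coe_smul, map_smul, LinearMap.smul_apply, Prod.smul_fst,
    exteriorPower.ιMulti_apply_coe]
  unfold ThetaS
  rw [Theta_ιMulti_vert _ _ _ _ (fun i => del_map f Dd hd1 (η i)), smul_zero, map_zero]

include hπ1 hπ2 hπ3 hd1 hd2 in
theorem exists_trace_of_data (lam : AdjoinRoot f →ₗ[R] R) (t : ℕ) :
    ∃ Tr : (⋀[AdjoinRoot f]^(t + 1) (Ω[AdjoinRoot f⁄Λ])) →+ (⋀[R]^(t + 1) (Ω[R⁄Λ])),
      (∀ (r : R) (ω : ⋀[AdjoinRoot f]^(t + 1) (Ω[AdjoinRoot f⁄Λ])),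
        Tr (algebraMap R (AdjoinRoot f) r • ω) = r • Tr ω) ∧
      (∀ (η : Fin t → Ω[R⁄Λ]) (s : AdjoinRoot f),
        Tr (exteriorPower.ιMulti (AdjoinRoot f) (t + 1)
          (Fin.snoc (fun j => KaehlerDifferential.map Λ Λ R (AdjoinRoot f) (η j))
            (s • KaehlerDifferential.D Λ (AdjoinRoot f) (AdjoinRoot.root f)) :
            Fin (t + 1) → Ω[AdjoinRoot f⁄Λ])) =
          lam s • exteriorPower.ιMulti R (t + 1) (Fin.snoc η ν : Fin (t + 1) → Ω[R⁄Λ])) ∧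
      (∀ (s : AdjoinRoot f) (η : Fin (t + 1) → Ω[R⁄Λ]),
        Tr (s • exteriorPower.ιMulti (AdjoinRoot f) (t + 1)
          (fun j => KaehlerDifferential.map Λ Λ R (AdjoinRoot f) (η j))) = 0) :=
  ⟨traceMap f ν Dπ hπ3 Dd lam (t + 1), traceMap_smul f ν Dπ hπ3 Dd lam (t + 1),
    traceMap_snoc f ν Dπ hπ1 hπ2 hπ3 Dd hd2 lam t,
    fun s η => traceMap_hor f ν Dπ hπ3 Dd hd1 lam (t + 1) η s⟩

end Main

end Groth.Agent.Lib.Helper6.TraceOm
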