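import Groth.Agent.Lib.Helper6.TraceOm.TRd

/-!
# Trace on differential forms for `R[x]/(x^p - a)` in characteristic `p`
-/

set_option autoImplicit false
set_option linter.unusedSectionVars false
set_option linter.unusedVariables false
set_option linter.unusedSimpArgs false
set_option linter.style.haveILetI false
set_option maxHeartbeats 400000

namespace Groth.Agent.Lib.Helper6.TraceOm

open Polynomial TensorProduct ExteriorAlgebra

universe u

variable (p : ℕ) [Fact p.Prime] (Λ R : Type u) [CommRing Λ] [CommRing R] [Algebra Λ R]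
  [CharP R p] (a : R)

theorem polyDer_X_pow_sub_C {N : Type*} [AddCommGroup N] (f : R[X]) [Module (AdjoinRoot f) N]
    [Module R N] [Module Λ N] [IsScalarTower R (AdjoinRoot f) N]
    [IsScalarTower Λ (AdjoinRoot f) N] (d : Derivation Λ R N) (n : ℕ) (b : R) :
    polyDer f d 0 (X ^ n - C b) = -d b := by
  rw [map_sub, polyDer_C, X_pow_eq_monomial, polyDer_apply, coefDer_monomial,
    Derivation.map_one_eq_zero, smul_zero, smul_zero, add_zero, zero_sub]

theorem hf_pi :
    polyDer (N := Module.End (AdjoinRoot (X ^ p - C a : R[X]))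
        (MM (X ^ p - C a : R[X]) (KaehlerDifferential.D Λ R a))) (X ^ p - C a : R[X])
      (dL (X ^ p - C a : R[X]) (KaehlerDifferential.D Λ R a)) 0 (X ^ p - C a) = 0 := by
  rw [polyDer_X_pow_sub_C, dL_apply, Lbc_self]
  simp

theorem hf_del :
    polyDer (X ^ p - C a : R[X])
      (0 : Derivation Λ R (AdjoinRoot (X ^ p - C a : R[X]))) 1 (X ^ p - C a) = 0 := by
  rw [polyDer_apply, coefDer_apply]
  have h1 : derivative (X ^ p - C a : R[X]) = 0 := by
    rw [derivative_sub, derivative_X_pow, derivative_C, sub_zero, CharP.cast_eq_zero R p,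
      map_zero, zero_mul]
  rw [h1, map_zero, zero_smul, add_zero]
  simp [Polynomial.sum]

theorem monic_f : (X ^ p - C a : R[X]).Monic :=
  monic_X_pow_sub_C a (Fact.out : p.Prime).ne_zero

/-- The coefficient of `x^(p-1)`. -/
noncomputable def lamMap : AdjoinRoot (X ^ p - C a : R[X]) →ₗ[R] R :=
  (Polynomial.lcoeff R (p - 1)).comp (AdjoinRoot.modByMonicHom (monic_f p R a))

theorem lamMap_root_pow (i : ℕ) (hi : i < p) :
    lamMap p R a (AdjoinRoot.root (X ^ p - C a : R[X]) ^ i) = if i = p - 1 then 1 else 0 := by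
  haveI : Nontrivial R := CharP.nontrivial_of_char_ne_one (v := p) (Fact.out : p.Prime).ne_one
  have h0 : AdjoinRoot.root (X ^ p - C a : R[X]) ^ i = AdjoinRoot.mk _ (X ^ i) := by
    rw [map_pow, AdjoinRoot.mk_X]
  have hdeg : (X ^ i : R[X]).degree < (X ^ p - C a : R[X]).degree := by
    rw [degree_X_pow_sub_C (Fact.out : p.Prime).pos a]
    exact (degree_X_pow_le i).trans_lt (Nat.cast_lt.2 hi)
  rw [h0]
  unfold lamMap
  rw [LinearMap.comp_apply, AdjoinRoot.modByMonicHom_mk,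
    (modByMonic_eq_self_iff (monic_f p R a)).2 hdeg, lcoeff_apply, coeff_X_pow]
  simp [eq_comm]

/-- The derivation `S → End(S ⊗ J)` extending `dL` with `root ↦ 0`. -/
noncomputable def Dpi : Derivation Λ (AdjoinRoot (X ^ p - C a : R[X]))
    (Module.End (AdjoinRoot (X ^ p - C a : R[X]))
      (MM (X ^ p - C a : R[X]) (KaehlerDifferential.D Λ R a))) :=
  extDer (Λ := Λ) (N := Module.End (AdjoinRoot (X ^ p - C a : R[X]))
      (MM (X ^ p - C a : R[X]) (KaehlerDifferential.D Λ R a))) (X ^ p - C a : R[X])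
    (dL (X ^ p - C a : R[X]) (KaehlerDifferential.D Λ R a)) 0 (hf_pi p Λ R a)

theorem Dpi_of (r : R) :
    Dpi p Λ R a (AdjoinRoot.of (X ^ p - C a : R[X]) r) =
      dL (X ^ p - C a : R[X]) (KaehlerDifferential.D Λ R a) r := by
  have hh := hf_pi p Λ R a
  exact extDer_of _ _ _ hh r

theorem Dpi_root :
    Dpi p Λ R a (AdjoinRoot.root (X ^ p - C a : R[X])) = 0 := by
  have hh := hf_pi p Λ R a
  exact extDer_root _ _ _ hh

theorem Dpi_mem_span (s : AdjoinRoot (X ^ p - C a : R[X])) :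
    Dpi p Λ R a s ∈ Submodule.span (AdjoinRoot (X ^ p - C a : R[X]))
      (Set.range (dL (X ^ p - C a : R[X]) (KaehlerDifferential.D Λ R a))) := by
  have hh := hf_pi p Λ R a
  exact extDer_mem_span _ _ _ hh rfl s

/-- The derivation `S → S` with `R ↦ 0`, `root ↦ 1`. -/
noncomputable def Ddel : Derivation Λ (AdjoinRoot (X ^ p - C a : R[X]))
    (AdjoinRoot (X ^ p - C a : R[X])) :=
  extDer (Λ := Λ) (N := AdjoinRoot (X ^ p - C a : R[X])) (X ^ p - C a : R[X])
    (0 : Derivation Λ R (AdjoinRoot (X ^ p - C a : R[X]))) 1 (hf_del p Λ R a)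

theorem Ddel_of (r : R) :
    Ddel p Λ R a (AdjoinRoot.of (X ^ p - C a : R[X]) r) = 0 := by
  have hh := hf_del p Λ R a
  exact extDer_of _ _ _ hh r

theorem Ddel_root :
    Ddel p Λ R a (AdjoinRoot.root (X ^ p - C a : R[X])) = 1 := by
  have hh := hf_del p Λ R a
  exact extDer_root _ _ _ hh

theorem exists_trace_pth_root (t : ℕ) :
    ∃ Tr : (⋀[AdjoinRoot (X ^ p - C a : R[X])]^(t + 1) (Ω[AdjoinRoot (X ^ p - C a : R[X])⁄Λ])) →+
        (⋀[R]^(t + 1) (Ω[R⁄Λ])),
      (∀ (r : R) (ω : ⋀[AdjoinRoot (X ^ p - C a : R[X])]^(t + 1)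
          (Ω[AdjoinRoot (X ^ p - C a : R[X])⁄Λ])),
        Tr (algebraMap R (AdjoinRoot (X ^ p - C a : R[X])) r • ω) = r • Tr ω) ∧
      (∀ (η : Fin t → Ω[R⁄Λ]) (i : ℕ), i + 2 ≤ p →
        Tr (exteriorPower.ιMulti _ (t + 1) (Fin.snoc (fun j => KaehlerDifferential.map Λ Λ R
          (AdjoinRoot (X ^ p - C a : R[X])) (η j))
          (AdjoinRoot.root (X ^ p - C a) ^ i •
            KaehlerDifferential.D Λ _ (AdjoinRoot.root (X ^ p - C a))))) = 0) ∧
      (∀ (η : Fin t → Ω[R⁄Λ]),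
        Tr (exteriorPower.ιMulti _ (t + 1) (Fin.snoc (fun j => KaehlerDifferential.map Λ Λ R
          (AdjoinRoot (X ^ p - C a : R[X])) (η j))
          (AdjoinRoot.root (X ^ p - C a) ^ (p - 1) •
            KaehlerDifferential.D Λ _ (AdjoinRoot.root (X ^ p - C a))))) =
          exteriorPower.ιMulti R (t + 1) (Fin.snoc η (KaehlerDifferential.D Λ R a))) ∧
      (∀ (s : AdjoinRoot (X ^ p - C a : R[X])) (η : Fin (t + 1) → Ω[R⁄Λ]),
        Tr (s • exteriorPower.ιMulti _ (t + 1) (fun j => KaehlerDifferential.map Λ Λ R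
          (AdjoinRoot (X ^ p - C a : R[X])) (η j))) = 0) := by
  have hpos : 0 < p := (Fact.out : p.Prime).pos
  obtain ⟨Tr, h1, h2, h3⟩ := exists_trace_of_data (X ^ p - C a : R[X]) (KaehlerDifferential.D Λ R a)
    (Dpi p Λ R a) (Dpi_of p Λ R a) (Dpi_root p Λ R a) (Dpi_mem_span p Λ R a)
    (Ddel p Λ R a) (Ddel_of p Λ R a) (Ddel_root p Λ R a) (lamMap p R a) t
  refine ⟨Tr, h1, ?_, ?_, h3⟩
  · intro η i hi
    rw [h2, lamMap_root_pow p R a i (by omega), if_neg (by omega), zero_smul]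
  · intro η
    rw [h2, lamMap_root_pow p R a (p - 1) (by omega), if_pos rfl, one_smul]

end Groth.Agent.Lib.Helper6.TraceOm
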